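import Mathlib.LinearAlgebra.QuadraticForm.Basic
import Mathlib.Algebra.Polynomial.Splits
import Mathlib.LinearAlgebra.Eigenspace.Minpoly
import Mathlib.LinearAlgebra.FiniteDimensional.Defs
import Mathlib.FieldTheory.Separable
import Mathlib.Algebra.CharP.Lemmas
import Mathlib.Algebra.CharP.Algebra
import Mathlib.NumberTheory.Padics.PadicVal.Basic

/-!
Finite order isometries of anisotropic quadratic forms.
-/

universe u v

open Polynomial

namespace Groth.Agent.BddQuad

variable (K : Type u) [Field K] {V : Type v} [AddCommGroup V] [Module K V]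

theorem isometry_eq_one_of_pow_char (p : ℕ) [Fact p.Prime] [CharP K p] (hp : p ≠ 2)
    (q : QuadraticForm K V) (hq : q.Anisotropic)
    (g : V ≃ₗ[K] V) (hg : ∀ x : V, q (g x) = q x) (hgp : g ^ p = 1) : g = 1 := by
  classical
  by_contra hne
  obtain ⟨x₀, hx₀⟩ : ∃ x, g x ≠ x := by
    by_contra h
    exact hne (LinearEquiv.ext fun x => Classical.byContradiction fun hx => h ⟨x, hx⟩)
  have : Nontrivial V := nontrivial_of_ne _ _ hx₀
  have : CharP (Module.End K V) p :=
    charP_of_injective_algebraMap (algebraMap K (Module.End K V)).injective p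
  set N : Module.End K V := (g : Module.End K V) - 1 with hN
  have hNapp : ∀ x, N x = g x - x := fun x => rfl
  have hpow : ∀ n : ℕ, ∀ x, (g ^ n) x = ((g : Module.End K V) ^ n) x := by
    intro n
    induction n with
    | zero => intro x; rfl
    | succ n ih => intro x; rw [pow_succ, pow_succ, Module.End.mul_apply, LinearEquiv.mul_apply, ih]; rfl
  have hNp : N ^ p = 0 := by
    rw [hN, sub_pow_char_of_commute _ (Commute.one_right _), one_pow, sub_eq_zero]
    exact LinearMap.ext fun x => by rw [← hpow, hgp]; rfl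
  obtain ⟨x, hx1, hx2⟩ : ∃ x, N x ≠ 0 ∧ N (N x) = 0 := by
    have hN0 : N ≠ 0 := fun h => hx₀ (sub_eq_zero.1 (by rw [← hNapp, h]; rfl))
    have hex : ∃ j, N ^ (j + 1) = 0 := ⟨p - 1, by
      rwa [Nat.sub_add_cancel (Fact.out : p.Prime).one_le]⟩
    let j := Nat.find hex
    have hj : N ^ (j + 1) = 0 := Nat.find_spec hex
    have hj0 : j ≠ 0 := fun h => hN0 (by simpa [h] using hj)
    have hjm : N ^ j ≠ 0 := fun h => Nat.find_min hex (show j - 1 < Nat.find hex by omega)
      (by rwa [Nat.sub_add_cancel (Nat.one_le_iff_ne_zero.2 hj0)])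
    obtain ⟨z, hz⟩ : ∃ z, (N ^ j) z ≠ 0 := by
      by_contra h
      exact hjm (LinearMap.ext fun z => Classical.byContradiction fun hz => h ⟨z, hz⟩)
    refine ⟨(N ^ (j - 1)) z, ?_, ?_⟩
    · rwa [← Module.End.mul_apply, ← pow_succ', Nat.sub_add_cancel (Nat.one_le_iff_ne_zero.2 hj0)]
    · rw [← Module.End.mul_apply, ← Module.End.mul_apply, mul_assoc, ← pow_succ', ← pow_succ',
        Nat.sub_add_cancel (Nat.one_le_iff_ne_zero.2 hj0), hj]
      rfl
  set y := N x with hy
  have hgy : g y = y := sub_eq_zero.1 (by rw [← hNapp]; exact hx2)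
  have hgx : g x = x + y := by rw [hy, hNapp]; abel
  have h2 : (2 : K) ≠ 0 := by
    intro h
    refine hp ((Nat.prime_dvd_prime_iff_eq Fact.out Nat.prime_two).1 ?_)
    exact (CharP.cast_eq_zero_iff K p 2).1 (by exact_mod_cast h)
  have hpol : QuadraticMap.polar q (g x) (g y) = QuadraticMap.polar q x y := by
    simp only [QuadraticMap.polar, ← map_add g, hg]
  rw [hgx, hgy, QuadraticMap.polar_add_left, add_eq_left, QuadraticMap.polar_self] at hpol
  exact hx1 (hq y ((mul_eq_zero.1 (by simpa [two_nsmul, two_mul] using hpol)).resolve_left h2))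

theorem isometry_sq_eq_one (hK : ∀ n : ℕ, 0 < n → (X ^ n - 1 : K[X]).Splits) (h2 : (2 : K) ≠ 0)
    [FiniteDimensional K V] (q : QuadraticForm K V) (hq : q.Anisotropic)
    (g : V ≃ₗ[K] V) (hg : ∀ x : V, q (g x) = q x) {d : ℕ} (hd : 0 < d) (hgd : g ^ d = 1) :
    g ^ 2 = 1 := by
  classical
  induction d using Nat.strong_induction_on generalizing g with
  | h d ih =>
    by_cases hdK : (d : K) = 0
    · obtain ⟨p, hcp⟩ := CharP.exists K
      have hpd : p ∣ d := (CharP.cast_eq_zero_iff K p d).1 hdK
      have hp0 : p ≠ 0 := fun h => by subst h; simp at hpd; omega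
      have hpp : p.Prime := (CharP.char_is_prime_or_zero K p).resolve_right hp0
      have := Fact.mk hpp
      have hp2 : p ≠ 2 := fun h => h2 (by subst h; exact_mod_cast CharP.cast_eq_zero K 2)
      obtain ⟨e, rfl⟩ := hpd
      have he : 0 < e := Nat.pos_of_mul_pos_left hd
      have hpow : ∀ n : ℕ, ∀ x, q ((g ^ n) x) = q x := by
        intro n
        induction n with
        | zero => intro x; rfl
        | succ n ihn => intro x; rw [pow_succ, LinearEquiv.mul_apply, ihn, hg]
      refine ih e ?_ g hg he (isometry_eq_one_of_pow_char K p hp2 q hq (g ^ e) (hpow e) ?_)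
      · exact lt_mul_of_one_lt_left he hpp.one_lt
      · rw [← pow_mul, mul_comm, hgd]
    · set h : Module.End K V := (g : Module.End K V) with hh
      have hpow : ∀ n : ℕ, ∀ x, (g ^ n) x = (h ^ n) x := by
        intro n
        induction n with
        | zero => intro x; rfl
        | succ n ihn => intro x; rw [pow_succ, pow_succ, Module.End.mul_apply, LinearEquiv.mul_apply, ihn]; rfl
      have hdvd : minpoly K h ∣ X ^ d - 1 := minpoly.dvd K h (by
        rw [map_sub, map_pow, aeval_X, map_one, sub_eq_zero]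
        exact LinearMap.ext fun x => by rw [← hpow, hgd]; rfl)
      have hne : (X ^ d - 1 : K[X]) ≠ 0 := by simpa using X_pow_sub_C_ne_zero (R := K) hd 1
      have hsep : (minpoly K h).Separable := (X_pow_sub_one_separable_iff.2 hdK).of_dvd hdvd
      have hspl : (minpoly K h).Splits := (hK d hd).of_dvd hne hdvd
      have hroot : ∀ μ ∈ (minpoly K h).roots, μ = 1 ∨ μ = -1 := by
        intro μ hμ
        obtain ⟨v, hv⟩ := (Module.End.hasEigenvalue_of_isRoot (isRoot_of_mem_roots hμ)).exists_hasEigenvector
        have hgv : g v = μ • v := hv.apply_eq_smul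
        have := hg v
        rw [hgv, QuadraticMap.map_smul, smul_eq_mul] at this
        have hqv : q v ≠ 0 := fun h0 => hv.2 (hq v h0)
        exact mul_self_eq_one_iff.1 (mul_right_cancel₀ hqv (this.trans (one_mul _).symm))
      have hmin : minpoly K h ∣ X ^ 2 - 1 := by
        rw [hspl.dvd_iff_roots_le_roots (minpoly.ne_zero (Algebra.IsIntegral.isIntegral h))
          (by simpa using X_pow_sub_C_ne_zero (R := K) two_pos 1)]
        refine (Multiset.le_iff_subset (nodup_roots hsep)).2 fun μ hμ => ?_
        rw [mem_roots (by simpa using X_pow_sub_C_ne_zero (R := K) two_pos 1)]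
        rcases hroot μ hμ with rfl | rfl <;> simp
      obtain ⟨c, hc⟩ := hmin
      have := congrArg (aeval h) hc
      rw [map_mul, minpoly.aeval, zero_mul, map_sub, map_pow, aeval_X, map_one, sub_eq_zero] at this
      exact LinearEquiv.ext fun x => by rw [hpow, this]; rfl

end Groth.Agent.BddQuad
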